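import Cfsg.Agent.H856.TF.Sack

/-!
# `Fi₂₃`: there is no character of degree 45747 (or 26520) with equal values at `2A` and `2B` and value `0` at `3A`
(helper856)

These are the restrictions of the faithful characters of `3.Fi₂₄'` to `Fi₂₃`.
-/

set_option autoImplicit false
set_option maxRecDepth 100000

namespace Cfsg.Agent.H856.TF

open Cfsg Subgroup Cfsg.Agent.Fischer.Fi23Hom Cfsg.Agent.LThreeFi23
open Cfsg.Agent.Characters.Core
open Cfsg.Spor (Fi23)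
open Cfsg.Agent.H511.Ore Cfsg.Agent.H856.F23

theorem srch45747 : srch 130 KS 45747 0 0 = true := by decide +kernel

theorem srch26520 : srch 130 KS 26520 0 0 = true := by decide +kernel

/-- the entry of an irreducible character -/
theorem entry (χ : IrrCharacter Fi23) (h1 : (χ : Fi23 → ℂ) ≠ 1) {f : ℕ} (hf : (χ : Fi23 → ℂ) 1 = f) (hle : f ≤ 45747) :
    ∃ (k : E) (A B : ℤ), k ∈ K0 :: KS ∧ (χ : Fi23 → ℂ) 1 = k.1 ∧ (χ : Fi23 → ℂ) (el .z) = A ∧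
      (χ : Fi23 → ℂ) (el .g * el .z) = B ∧ (χ : Fi23 → ℂ) (el .j * el .z) = k.2.1 ∧ k.2.2 ≤ B - A := by
  obtain ⟨A, B, T, hA, hB, hT, e, he, hef, hk⟩ := enum χ h1 hf hle
  unfold key at hk
  obtain ⟨k, hk1, hk2⟩ := List.any_eq_true.1 hk
  rw [Bool.and_eq_true] at hk2
  have hkT : k.1 = T := by
    have := Nat.eq_of_beq_eq_true hk2.1
    omega
  refine ⟨(((e.1.1 * e.1.2 : ℕ) : ℤ), k.1, k.2), A, B, ?_, ?_, hA, hB, ?_, ?_⟩
  · rw [← KS_eq]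
    exact List.mem_flatMap.2 ⟨e, he, List.mem_map.2 ⟨k, hk1, rfl⟩⟩
  · rw [hf, hef]; push_cast; rfl
  · rw [hT, hkT]
  · have := le_of_nn hk2.2
    show k.2 ≤ B - A
    omega

theorem no_deg {n : ℕ} (hn : n ≤ 45747) (hs : srch 130 KS n 0 0 = true) {φ : Fi23 → ℂ} (h : IsCharacter Fi23 φ)
    (h1 : φ (el .z) = φ (el .g * el .z)) (h3 : φ (el .j * el .z) = 0) : φ 1 ≠ n := by
  classical
  have := H713.Spor.Fi23.finite_fi23
  intro hφ
  have : Finite (IrrCharacter Fi23) := finite_irr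
  let : Fintype (IrrCharacter Fi23) := Fintype.ofFinite _
  obtain ⟨m, hm⟩ := isCharacter_iff.1 h
  set t : IrrCharacter Fi23 := ⟨1, isIrr_one⟩ with ht
  set S : Finset (IrrCharacter Fi23) := Finset.univ.filter (fun ψ => ψ ≠ t ∧ m ψ ≠ 0) with hS
  have hdec : ∀ g : Fi23, φ g = ∑ ψ ∈ S, (m ψ : ℂ) * (ψ : Fi23 → ℂ) g + m t := by
    intro g
    have e1 : φ g = ∑ ψ : IrrCharacter Fi23, (m ψ : ℂ) * (ψ : Fi23 → ℂ) g := by
      conv_lhs => rw [hm]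
      rw [Finset.sum_apply]
      exact Finset.sum_congr rfl fun ψ _ => by rw [Pi.smul_apply, nsmul_eq_mul]
    rw [e1, ← Finset.sum_erase_add _ _ (Finset.mem_univ t)]
    congr 1
    · refine (Finset.sum_subset ?_ ?_).symm
      · intro ψ hψ
        rw [hS, Finset.mem_filter] at hψ
        exact Finset.mem_erase.2 ⟨hψ.2.1, Finset.mem_univ _⟩
      · intro ψ hψ hψ'
        have h0 : m ψ = 0 := by
          by_contra hcon
          exact hψ' (Finset.mem_filter.2 ⟨Finset.mem_univ _, Finset.ne_of_mem_erase hψ, hcon⟩)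
        rw [h0, Nat.cast_zero, zero_mul]
    · rw [ht]; simp
  have hdeg : ∀ ψ : IrrCharacter Fi23, ∃ f : ℕ, (ψ : Fi23 → ℂ) 1 = f := fun ψ => by
    obtain ⟨f, -, hf⟩ := isIrr_apply_one ψ.2
    exact ⟨f, hf⟩
  choose f hf using hdeg
  have hsum : ∑ ψ ∈ S, m ψ * f ψ + m t = n := by
    have h5 := hdec 1
    rw [hφ] at h5
    simp only [hf] at h5
    exact_mod_cast h5.symm
  have hle : ∀ ψ ∈ S, f ψ ≤ 45747 := by
    intro ψ hψ
    have h6 : m ψ * f ψ ≤ ∑ ψ ∈ S, m ψ * f ψ :=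
      Finset.single_le_sum (f := fun ψ => m ψ * f ψ) (fun _ _ => Nat.zero_le _) hψ
    have h7 : 0 < m ψ := Nat.pos_of_ne_zero (Finset.mem_filter.1 hψ).2.2
    have h8 : f ψ ≤ m ψ * f ψ := Nat.le_mul_of_pos_left _ h7
    omega
  have hent : ∀ ψ : IrrCharacter Fi23, ∃ (k : E) (A B : ℤ), ψ ∈ S → (k ∈ K0 :: KS ∧ (ψ : Fi23 → ℂ) 1 = k.1 ∧
      (ψ : Fi23 → ℂ) (el .z) = A ∧ (ψ : Fi23 → ℂ) (el .g * el .z) = B ∧ (ψ : Fi23 → ℂ) (el .j * el .z) = k.2.1 ∧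
        k.2.2 ≤ B - A) := by
    intro ψ
    by_cases hψ : ψ ∈ S
    · have hne : (ψ : Fi23 → ℂ) ≠ 1 := fun h9 => (Finset.mem_filter.1 hψ).2.1 (Subtype.ext h9)
      obtain ⟨k, A, B, h9⟩ := entry ψ hne (hf ψ) (hle ψ hψ)
      exact ⟨k, A, B, fun _ => h9⟩
    · exact ⟨K0, 0, 0, fun h9 => absurd h9 hψ⟩
  choose k A B hk using hent
  set s : Multiset E := ∑ ψ ∈ S, m ψ • ({k ψ} : Multiset E) with hs'
  have hmap : ∀ F : E → ℤ, (s.map F).sum = ∑ ψ ∈ S, (m ψ : ℤ) * F (k ψ) := by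
    intro F
    have e1 : (s.map F).sum = (Multiset.sumAddMonoidHom.comp (Multiset.mapAddMonoidHom F)) s := rfl
    rw [e1, hs', map_sum]
    refine Finset.sum_congr rfl fun ψ _ => ?_
    rw [map_nsmul, nsmul_eq_mul]
    simp
  refine sound hs s ?_ (m t) ?_ ?_ ?_
  · intro x hx
    rw [hs', Multiset.mem_sum] at hx
    obtain ⟨ψ, hψ, hx⟩ := hx
    have hx2 := Multiset.mem_of_mem_nsmul hx
    rw [Multiset.mem_singleton] at hx2
    rw [hx2]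
    exact (hk ψ hψ).1
  · rw [hmap]
    have h5 := hdec 1
    rw [hφ] at h5
    have h6 : ((n : ℤ) : ℂ) = ((∑ ψ ∈ S, (m ψ : ℤ) * (k ψ).1 + (m t : ℤ) : ℤ) : ℂ) := by
      push_cast
      rw [h5]
      congr 1
      exact Finset.sum_congr rfl fun ψ hψ => by rw [(hk ψ hψ).2.1]
    exact_mod_cast h6
  · rw [hmap]
    have h5 := hdec (el .j * el .z)
    rw [h3] at h5
    have h6 : ((0 : ℤ) : ℂ) = ((∑ ψ ∈ S, (m ψ : ℤ) * (k ψ).2.1 + (m t : ℤ) : ℤ) : ℂ) := by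
      push_cast
      rw [h5]
      congr 1
      exact Finset.sum_congr rfl fun ψ hψ => by rw [(hk ψ hψ).2.2.2.2.1]
    have h7 : (0 : ℤ) = ∑ ψ ∈ S, (m ψ : ℤ) * (k ψ).2.1 + (m t : ℤ) := by exact_mod_cast h6
    exact h7.symm
  · rw [hmap]
    have h5 := hdec (el .z)
    have h6 := hdec (el .g * el .z)
    have h7 : ((∑ ψ ∈ S, (m ψ : ℤ) * A ψ : ℤ) : ℂ) = ((∑ ψ ∈ S, (m ψ : ℤ) * B ψ : ℤ) : ℂ) := by
      have e1 : ∑ ψ ∈ S, (m ψ : ℂ) * (ψ : Fi23 → ℂ) (el .z) = ∑ ψ ∈ S, (m ψ : ℂ) * (ψ : Fi23 → ℂ) (el .g * el .z) := by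
        rw [h5, h6] at h1
        exact add_right_cancel h1
      push_cast
      calc ∑ ψ ∈ S, (m ψ : ℂ) * (A ψ : ℂ) = ∑ ψ ∈ S, (m ψ : ℂ) * (ψ : Fi23 → ℂ) (el .z) :=
            Finset.sum_congr rfl fun ψ hψ => by rw [(hk ψ hψ).2.2.1]
        _ = ∑ ψ ∈ S, (m ψ : ℂ) * (ψ : Fi23 → ℂ) (el .g * el .z) := e1
        _ = ∑ ψ ∈ S, (m ψ : ℂ) * (B ψ : ℂ) := Finset.sum_congr rfl fun ψ hψ => by rw [(hk ψ hψ).2.2.2.1]
    have h8 : ∑ ψ ∈ S, (m ψ : ℤ) * A ψ = ∑ ψ ∈ S, (m ψ : ℤ) * B ψ := by exact_mod_cast h7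
    calc ∑ ψ ∈ S, (m ψ : ℤ) * (k ψ).2.2 ≤ ∑ ψ ∈ S, (m ψ : ℤ) * (B ψ - A ψ) :=
          Finset.sum_le_sum fun ψ hψ => mul_le_mul_of_nonneg_left (hk ψ hψ).2.2.2.2.2 (Int.natCast_nonneg _)
      _ = 0 := by
        simp only [mul_sub, Finset.sum_sub_distrib]
        rw [h8, sub_self]

/-- **no character of degree 45747** -/
theorem no45747 {φ : Fi23 → ℂ} (h : IsCharacter Fi23 φ) (h1 : φ (el .z) = φ (el .g * el .z))
    (h3 : φ (el .j * el .z) = 0) : φ 1 ≠ 45747 := by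
  have := no_deg (n := 45747) le_rfl srch45747 h h1 h3
  exact_mod_cast this

/-- **no character of degree 26520** -/
theorem no26520 {φ : Fi23 → ℂ} (h : IsCharacter Fi23 φ) (h1 : φ (el .z) = φ (el .g * el .z))
    (h3 : φ (el .j * el .z) = 0) : φ 1 ≠ 26520 := by
  have := no_deg (n := 26520) (by norm_num) srch26520 h h1 h3
  exact_mod_cast this

end Cfsg.Agent.H856.TF
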