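import Cfsg.Agent.H856.F23.Deg
import Cfsg.Agent.SporadicA.M11CharSimple

/-!
# `Fi₂₃`: all pairs `(χ(1), χ(3A))` with `χ(1) ≤ 45747` (helper856)

`TB` : the degrees `f ≤ 45747` (as `m J`) and for each of them the pairs `(T, D)`: `T = χ(3A)`, `D` a lower bound of
`χ(2B) - χ(2A)`; `key_of`, `tableOK` : the table is complete.
-/

set_option autoImplicit false
set_option maxRecDepth 100000

namespace Cfsg.Agent.H856.TF

open Cfsg Subgroup Cfsg.Agent.Fischer.Fi23Hom Cfsg.Agent.LThreeFi23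
open Cfsg.Agent.Characters.Core
open Cfsg.Spor (Fi23)
open Cfsg.Agent.H511.Ore Cfsg.Agent.H856.F23

/-- the entry of the character of degree 782 -/
def K0 : ℤ × ℤ × ℤ := (782, -1, 0)

/-- the degrees `m J`, with `J = gcd (m J, 31671)`, and the pairs `(T, D)` -/
def TB : List ((ℕ × ℕ) × List (ℤ × ℤ)) := [
  ((32, 9), []), ((14, 51), []), ((44, 17), []), ((2, 391), [(-1, 0)]), ((2, 621), []), ((65, 23), []), ((88,
  17), []), ((13, 153), []), ((11, 207), []), ((7, 391), []), ((52, 69), [(78, -376)]), ((11, 391), []), ((13,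
  391), [(169, -768)]), ((28, 207), []), ((5, 1173), []), ((275, 23), []), ((286, 23), []), ((416, 17), []),
  ((320, 23), []), ((20, 391), [(98, 408)]), ((154, 51), []), ((56, 153), [(378, -2576)]), ((5, 1863), []), ((8,
  1173), []), ((26, 391), [(-13, -112)]), ((640, 17), []), ((715, 17), [(923, -1496)]), ((11, 1173), [(267,
  -2354), (2724, -4466)]), ((4550, 3), []), ((832, 17), []), ((40, 391), [(547, -3012), (2437, -6400)]), ((728,
  23), []), ((112, 153), []), ((352, 51), [(-300, 2112)]), ((6160, 3), []), ((1100, 17), []), ((7168, 3), []),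
  ((1430, 17), [(91, -737), (2197, -11209), (5005, -12980)]), ((64, 391), [(1021, 1120), (5368, -6272), (7825,
  -11648)]), ((25025, 1), []), ((22, 1173), [(-384, 2816), (183, -2189), (2073, -13893), (2640, -15664), (5097,
  -12749)]), ((520, 51), [(3354, -14016), (5811, -13540)]), ((77, 391), [(623, -5082), (1190, -9856), (3080,
  -5082), (6104, -11242)]), ((1144, 27), [(351, -2816)]), ((70, 459), [(-357, 1981), (189, -2387), (1281,
  -7931), (2100, -7196), (3738, -924), (5103, -15036), (7014, -9275), (7833, -13244)]), ((1408, 23), []), ((28,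
  1173), [(903, -8050), (5817, -3584)]), ((10, 3519), [(-378, 2375), (-27, -628), (189, -1769), (441, 1311),
  (540, -5313), (792, -7280), (1008, -8097), (1359, -10484), (2079, 1388), (2430, -15673), (2646, -17204),
  (2898, -18401), (2997, -15860), (3249, -6004), (3816, -17521), (4536, -18324), (4887, -11977), (5454, -5633),
  (5706, -11121), (5922, -13396), (7344, -17169), (7911, -15764), (8163, -13748), (8379, -14817), (9801,
  -16896), (10620, -13300)]), ((704, 51), [(10011, -14432)]), ((176, 207), [(981, -8888), (9990, -16896)]),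
  ((27, 1377), [(540, -4664), (2430, -5994)]), ((2275, 17), [(4277, -15512)]), ((91, 459), [(-546, 3584), (1911,
  -16128), (2457, -11200), (2730, -6734), (5187, -26446), (9282, -15358)]), ((110, 391), [(890, -8316), (3347,
  -23067), (5804, -25179), (8261, -20988), (13175, -19712)]), ((70, 621), [(378, -3045), (2289, -7588), (4746,
  -27300), (10479, -20909)]), ((286, 153), [(0, -1188), (351, -4037), (1989, -11396), (2457, -14509), (2808,
  -20669), (4095, -15125), (4446, -10549), (5265, -23364), (6552, -3652), (6903, -16896), (7722, -14861), (9009,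
  -23364), (11817, -14509), (12285, -20592)]), ((13, 3519), [(-1287, 9352), (351, -4090), (1170, -10360), (2808,
  -16256), (5265, -28378), (7722, -20216), (10179, -13440)])]

structure Str (f A B T : ℤ) : Prop where
  v1 : 0 ≤ f + B - 2 * A
  v2 : 0 ≤ f + B + 2 * A
  s1 : 0 ≤ f + 2 * T - 3 * A
  s2 : 0 ≤ f + 2 * T + 3 * A
  r1 : 0 ≤ f + 2 * T - 3 * B
  r2 : 0 ≤ f + 2 * T + 3 * B
  b1 : B ≤ f
  b2 : T ≤ f
  dvd : f ∣ 31671 * A
  rel : 31671 * (A * A) = f * (f + 3510 * B + 28160 * T)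
  m7 : C7 f A B T = true
  m13 : C13 f A T = true
  m11 : C11 f A B = true

/-- the residues modulo 11, without `B` -/
def pre11 (f A : ℤ) : Bool :=
  [((0 : ℤ), (0 : ℤ)), (1, 1), (-1, -1), (1, -1), (-1, 1), (2, 0), (-2, 0), (1, 0), (-1, 0)].any fun t =>
    (f - t.1) % 11 == 0 && (A - t.2) % 11 == 0

theorem pre11_of {f A B : ℤ} (h : C11 f A B = true) : pre11 f A = true := by
  unfold C11 at h
  rw [List.any_eq_true] at h
  obtain ⟨t, ht, h⟩ := h
  simp only [Bool.and_eq_true, beq_iff_eq] at h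
  unfold pre11
  rw [List.any_eq_true]
  refine ⟨(t.1, t.2.1), ?_, ?_⟩
  · have : ∀ t ∈ [((0 : ℤ), (0 : ℤ), (0 : ℤ)), (1, 1, 1), (-1, -1, -1), (1, -1, 1), (-1, 1, -1), (2, 0, -2), (-2, 0, 2),
      (1, 0, -1), (-1, 0, 1)], (t.1, t.2.1) ∈
        [((0 : ℤ), (0 : ℤ)), (1, 1), (-1, -1), (1, -1), (-1, 1), (2, 0), (-2, 0), (1, 0), (-1, 0)] := by
      decide +kernel
    exact this t ht
  · simp only [Bool.and_eq_true, beq_iff_eq]
    exact ⟨h.1, h.2.1⟩

/-- forced evaluation -/
def seqN (n : ℕ) (k : ℕ → Bool) : Bool := Nat.rec (motive := fun _ => Bool) (k 0) (fun m _ => k (m + 1)) n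

theorem seqN_eq (n : ℕ) (k : ℕ → Bool) : seqN n k = k n := by cases n <;> rfl

/-- forced evaluation -/
def seqI (x : ℤ) (k : ℤ → Bool) : Bool :=
  match x with
  | .ofNat n => seqN n fun n => k (.ofNat n)
  | .negSucc n => seqN n fun n => k (.negSucc n)

theorem seqI_eq (x : ℤ) (k : ℤ → Bool) : seqI x k = k x := by
  cases x with
  | ofNat n => exact seqN_eq n fun n => k (.ofNat n)
  | negSucc n => exact seqN_eq n fun n => k (.negSucc n)

/-- `0 ≤ x` -/
def nn (x : ℤ) : Bool :=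
  match x with
  | .ofNat _ => true
  | .negSucc _ => false

theorem nn_of {x : ℤ} (h : 0 ≤ x) : nn x = true := by
  cases x with
  | ofNat n => rfl
  | negSucc n => exact absurd h (by omega)

theorem le_of_nn {x : ℤ} (h : nn x = true) : 0 ≤ x := by
  cases x with
  | ofNat n => exact Int.natCast_nonneg n
  | negSucc n => exact absurd h Bool.false_ne_true

/-- `p ∣ x` -/
def dv (p : ℕ) (x : ℤ) : Bool := Nat.beq (x.natAbs % p) 0

theorem dv_of {p : ℕ} {x : ℤ} (h : (p : ℤ) ∣ x) : dv p x = true := by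
  unfold dv
  have h1 : x.natAbs % p = 0 := Nat.mod_eq_zero_of_dvd (Int.natCast_dvd.1 h)
  rw [h1]
  rfl

/-- the residues modulo 7 -/
def D7 (f A B T : ℤ) : Bool :=
  [(0 : ℤ), 1, -1].any fun c => q7.any fun t => dv 7 (f - c * t.1) && (dv 7 (A - c * t.2.1) &&
    (dv 7 (B - c * t.2.2.1) && dv 7 (T - c * t.2.2.2)))

/-- the residues modulo 13 -/
def D13 (f A T : ℤ) : Bool :=
  [(0 : ℤ), 1, -1, 6, -6].any fun c => [((1 : ℤ), (1 : ℤ), (1 : ℤ)), (1, -1, 1), (2, 0, -1)].any fun t =>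
    dv 13 (f - c * t.1) && (dv 13 (A - c * t.2.1) && dv 13 (T - c * t.2.2))

/-- the residues modulo 11 -/
def D11 (f A B : ℤ) : Bool :=
  [((0 : ℤ), (0 : ℤ), (0 : ℤ)), (1, 1, 1), (-1, -1, -1), (1, -1, 1), (-1, 1, -1), (2, 0, -2), (-2, 0, 2), (1, 0, -1),
    (-1, 0, 1)].any fun t => dv 11 (f - t.1) && (dv 11 (A - t.2.1) && dv 11 (B - t.2.2))

theorem D7_of {f A B T : ℤ} (h : C7 f A B T = true) : D7 f A B T = true := by
  unfold C7 at h
  rw [List.any_eq_true] at h
  obtain ⟨c, hc, h⟩ := h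
  rw [List.any_eq_true] at h
  obtain ⟨t, ht, h⟩ := h
  simp only [Bool.and_eq_true, beq_iff_eq] at h
  refine List.any_eq_true.2 ⟨c, hc, List.any_eq_true.2 ⟨t, ht, ?_⟩⟩
  simp only [Bool.and_eq_true]
  exact ⟨dv_of (Int.dvd_of_emod_eq_zero h.1), dv_of (Int.dvd_of_emod_eq_zero h.2.1),
    dv_of (Int.dvd_of_emod_eq_zero h.2.2.1), dv_of (Int.dvd_of_emod_eq_zero h.2.2.2)⟩

theorem D13_of {f A T : ℤ} (h : C13 f A T = true) : D13 f A T = true := by
  unfold C13 at h
  rw [List.any_eq_true] at h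
  obtain ⟨c, hc, h⟩ := h
  rw [List.any_eq_true] at h
  obtain ⟨t, ht, h⟩ := h
  simp only [Bool.and_eq_true, beq_iff_eq] at h
  refine List.any_eq_true.2 ⟨c, hc, List.any_eq_true.2 ⟨t, ht, ?_⟩⟩
  simp only [Bool.and_eq_true]
  exact ⟨dv_of (Int.dvd_of_emod_eq_zero h.1), dv_of (Int.dvd_of_emod_eq_zero h.2.1),
    dv_of (Int.dvd_of_emod_eq_zero h.2.2)⟩

theorem D11_of {f A B : ℤ} (h : C11 f A B = true) : D11 f A B = true := by
  unfold C11 at h
  rw [List.any_eq_true] at h
  obtain ⟨t, ht, h⟩ := h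
  simp only [Bool.and_eq_true, beq_iff_eq] at h
  refine List.any_eq_true.2 ⟨t, ht, ?_⟩
  simp only [Bool.and_eq_true]
  exact ⟨dv_of (Int.dvd_of_emod_eq_zero h.1), dv_of (Int.dvd_of_emod_eq_zero h.2.1),
    dv_of (Int.dvd_of_emod_eq_zero h.2.2)⟩

/-- the good quadruples -/
def good (f A B T : ℤ) : Bool :=
  nn (f + 2 * T - 3 * B) && (nn (f + 2 * T + 3 * B) && (D11 f A B && (D13 f A T && (nn (f - B) && (nn (f + B - 2 * A) &&
    (nn (f + B + 2 * A) && (nn (f + 2 * T - 3 * A) && (nn (f + 2 * T + 3 * A) && D7 f A B T))))))))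

/-- the entry belongs to the table -/
def key (K : List (ℤ × ℤ)) (A B T : ℤ) : Bool :=
  K.any fun k => Nat.beq (k.1 - T).natAbs 0 && nn (B - A - k.2)

/-- the residues modulo 7, without `B`, `T` -/
def pre7 (f A : ℤ) : Bool :=
  [((1 : ℤ), (1 : ℤ)), (1, -1), (-1, 1), (-1, -1), (4, 2), (4, -2), (-4, 2), (-4, -2), (5, 1), (5, -1), (-5, 1),
    (-5, -1), (6, 0), (-6, 0), (0, 0)].any fun t => dv 7 (f - t.1) && dv 7 (A - t.2)

theorem pre7_of {f A B T : ℤ} (h : C7 f A B T = true) : pre7 f A = true := by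
  unfold C7 at h
  rw [List.any_eq_true] at h
  obtain ⟨c, hc, h⟩ := h
  rw [List.any_eq_true] at h
  obtain ⟨t, ht, h⟩ := h
  simp only [Bool.and_eq_true, beq_iff_eq] at h
  refine List.any_eq_true.2 ⟨(c * t.1, c * t.2.1), ?_, ?_⟩
  · have : ∀ c ∈ [(0 : ℤ), 1, -1], ∀ t ∈ q7, (c * t.1, c * t.2.1) ∈
      [((1 : ℤ), (1 : ℤ)), (1, -1), (-1, 1), (-1, -1), (4, 2), (4, -2), (-4, 2), (-4, -2), (5, 1), (5, -1), (-5, 1),
        (-5, -1), (6, 0), (-6, 0), (0, 0)] := by decide +kernel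
    exact this c hc t ht
  · simp only [Bool.and_eq_true]
    exact ⟨dv_of (Int.dvd_of_emod_eq_zero h.1), dv_of (Int.dvd_of_emod_eq_zero h.2.1)⟩

/-- the loop over `T` -/
def innr (K : List (ℤ × ℤ)) (f A : ℤ) : Bool :=
  bif !(pre7 f A) || !(Nat.beq (31671 * (A * A) % f).natAbs 0) then true else
  bif !(dv 10 (31671 * (A * A) / f - f)) then true else
  seqI ((31671 * (A * A) / f - f) / 10) fun R =>
  seqI ((R - 117 * f) / 1070550 - 1) fun lo =>
  seqI ((44 * R) % 351) fun T0 =>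
  (List.range ((R + 117 * f) / 906282 - lo + 1).toNat).all fun k =>
    seqI (T0 + 351 * ((k : ℤ) + lo)) fun T =>
    seqI ((R - 2816 * T) / 351) fun B =>
    !(good f A B T) || key K A B T

/-- the residues modulo 143 of the possible `j` -/
def filt (f m : ℤ) : List ℕ := (List.range 143).filter fun r => c13 f (m * r) && pre11 f (m * r)

/-- the loop over `A = m j`, `|j| < J` -/
def chkK (K : List (ℤ × ℤ)) (f m : ℤ) (J : ℕ) (G : List ℕ) : Bool :=
  G.all fun r => (List.range (2 * (J / 143 + 1) + 1)).all fun b =>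
    seqI ((r : ℤ) + 143 * ((b : ℤ) - ((J / 143 + 1 : ℕ) : ℤ))) fun j =>
    bif nn (j + J - 1) && nn (J - j - 1) then seqI (m * j) fun A => innr K f A else true

theorem c13_cong {f A A' : ℤ} (h : (13 : ℤ) ∣ A - A') (hc : c13 f A = true) : c13 f A' = true := by
  unfold c13 at hc ⊢
  rw [List.any_eq_true] at hc ⊢
  obtain ⟨c, hc1, hc⟩ := hc
  rw [List.any_eq_true] at hc
  obtain ⟨t, ht, hc⟩ := hc
  refine ⟨c, hc1, List.any_eq_true.2 ⟨t, ht, ?_⟩⟩
  simp only [Bool.and_eq_true, beq_iff_eq] at hc ⊢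
  refine ⟨hc.1, ?_⟩
  have := hc.2
  generalize c * t.2 = w at *
  omega

theorem pre11_cong {f A A' : ℤ} (h : (11 : ℤ) ∣ A - A') (hc : pre11 f A = true) : pre11 f A' = true := by
  unfold pre11 at hc ⊢
  rw [List.any_eq_true] at hc ⊢
  obtain ⟨t, ht, hc⟩ := hc
  refine ⟨t, ht, ?_⟩
  simp only [Bool.and_eq_true, beq_iff_eq] at hc ⊢
  refine ⟨hc.1, ?_⟩
  have := hc.2
  omega

theorem key_of {K : List (ℤ × ℤ)} {f m : ℤ} {J : ℕ} (hf : 0 < f) (hm : ∀ A : ℤ, f ∣ 31671 * A → m ∣ A)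
    (hJ : f = m * J) (hm0 : 0 < m) (h : chkK K f m J (filt f m) = true) {A B T : ℤ}
    (hd : Str f A B T) (hA1 : -f < A) (hA2 : A < f) : key K A B T = true := by
  obtain ⟨v1, v2, s1, s2, r1, r2, b1, b2, dvd, rel, m7, m13, m11⟩ := hd
  obtain ⟨j, rfl⟩ := hm A dvd
  have hj1 : j < J := by
    by_contra hcon
    push Not at hcon
    have : m * J ≤ m * j := mul_le_mul_of_nonneg_left hcon hm0.le
    omega
  have hj2 : -(J : ℤ) < j := by
    by_contra hcon
    push Not at hcon
    have h1 : m * J ≤ m * (-j) := mul_le_mul_of_nonneg_left (by omega) hm0.le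
    have h2 : m * (-j) = -(m * j) := by ring
    omega
  unfold chkK at h
  rw [List.all_eq_true] at h
  have hq : (143 : ℤ) ∣ m * j - m * ((j % 143).toNat : ℕ) := by
    have e : m * j - m * ((j % 143).toNat : ℕ) = m * (j - ((j % 143).toNat : ℕ)) := by ring
    rw [e]
    exact Dvd.dvd.mul_left (by omega) _
  have hmem : (j % 143).toNat ∈ filt f m := by
    unfold filt
    rw [List.mem_filter]
    refine ⟨List.mem_range.2 (by omega), ?_⟩
    rw [Bool.and_eq_true]
    exact ⟨c13_cong (dvd_trans (by norm_num) hq) (c13_of m13), pre11_cong (dvd_trans (by norm_num) hq) (pre11_of m11)⟩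
  have h0 := h _ hmem
  simp only [seqI_eq, innr] at h0
  rw [List.all_eq_true] at h0
  have h1 := h0 (j / 143 + ((J / 143 + 1 : ℕ) : ℤ)).toNat (List.mem_range.2 (by omega))
  have h2 : ((j % 143).toNat : ℤ) + 143 * (((j / 143 + ((J / 143 + 1 : ℕ) : ℤ)).toNat : ℤ) - ((J / 143 + 1 : ℕ) : ℤ)) = j := by
    omega
  simp only [h2] at h1
  rw [nn_of (x := j + J - 1) (by omega), nn_of (x := (J : ℤ) - j - 1) (by omega)] at h1
  simp only [Bool.and_self, cond_true] at h1
  have hR : 31671 * (m * j * (m * j)) / f = f + 3510 * B + 28160 * T := by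
    rw [rel]
    exact Int.mul_ediv_cancel_left _ hf.ne'
  have hR2 : (31671 * (m * j * (m * j)) / f - f) / 10 = 351 * B + 2816 * T := by
    rw [hR]; omega
  have hR3 : dv 10 (31671 * (m * j * (m * j)) / f - f) = true := by
    rw [hR]; exact dv_of (by omega)
  have hR4 : Nat.beq (31671 * (m * j * (m * j)) % f).natAbs 0 = true := by
    rw [rel, Int.mul_emod_right]; rfl
  rw [pre7_of m7, hR3, hR4] at h1
  simp only [Bool.not_true, Bool.or_self, cond_false] at h1
  rw [hR2, List.all_eq_true] at h1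
  have h3 := h1 (T / 351 - ((351 * B + 2816 * T - 117 * f) / 1070550 - 1)).toNat (List.mem_range.2 (by omega))
  have h4 : (((T / 351 - ((351 * B + 2816 * T - 117 * f) / 1070550 - 1)).toNat : ℕ) : ℤ) +
      ((351 * B + 2816 * T - 117 * f) / 1070550 - 1) = T / 351 := by omega
  have h5 : (44 * (351 * B + 2816 * T)) % 351 + 351 * (T / 351) = T := by omega
  have h6 : (351 * B + 2816 * T - 2816 * T) / 351 = B := by omega
  simp only [h4, h5, h6] at h3
  have hg : good f (m * j) B T = true := by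
    unfold good
    rw [nn_of (x := f - B) (by omega), nn_of v1, nn_of v2, nn_of s1, nn_of s2, nn_of r1, nn_of r2, D7_of m7, D11_of m11,
      D13_of m13]
    rfl
  rw [hg] at h3
  simpa using h3

/-- the check of one degree -/
def oneOK (e : (ℕ × ℕ) × List (ℤ × ℤ)) : Bool :=
  Nat.beq (31671 % e.1.2) 0 && (Nat.beq (Nat.gcd e.1.1 (31671 / e.1.2)) 1 &&
    seqN (e.1.1 * e.1.2) fun f => chkK e.2 (f : ℤ) (e.1.1 : ℤ) e.1.2 (filt (f : ℤ) (e.1.1 : ℤ)))

theorem table1 : (TB.take 40).all oneOK = true := by decide +kernel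
theorem table2 : ((TB.drop 40).take 8).all oneOK = true := by decide +kernel
theorem table3 : ((TB.drop 48).take 5).all oneOK = true := by decide +kernel
theorem table4 : (TB.drop 53).all oneOK = true := by decide +kernel

theorem tableOK : TB.all oneOK = true := by
  have e : TB = TB.take 40 ++ ((TB.drop 40).take 8 ++ ((TB.drop 48).take 5 ++ TB.drop 53)) := by rfl
  rw [e, List.all_append, List.all_append, List.all_append, table1, table2, table3, table4]
  rfl

end Cfsg.Agent.H856.TF
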