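import Cfsg.Agent.H856.TF.Enum

/-!
# `Fi₂₃`: the enumeration theorem (helper856)
-/

set_option autoImplicit false
set_option maxRecDepth 100000

namespace Cfsg.Agent.H856.TF

open Cfsg Subgroup Cfsg.Agent.Fischer.Fi23Hom Cfsg.Agent.LThreeFi23
open Cfsg.Agent.Characters.Core
open Cfsg.Spor (Fi23)
open Cfsg.Agent.H511.Ore Cfsg.Agent.H856.F23
open Cfsg.Agent.H653.Sieve Cfsg.Agent.H651.Two

/-- the residues of the degrees, outside of the table -/
def PE (f : ℕ) : Bool :=
  Nat.ble f 45747 && ((!(TB.any fun e => Nat.beq (e.1.1 * e.1.2) f)) && ([0, 1, 16].elem (f % 17) &&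
    ([0, 1, 12, 2, 11, 6, 7].elem (f % 13) && [0, 1, 10, 2, 9].elem (f % 11))))

theorem chk_divE : allDiv (45748 * 45748) (tstOn PE 0 [] [cd23]) LF 1 = true := by
  decide +kernel

theorem degOnE : DegOn Fi23 PE 45748 := by
  have := H713.Spor.Fi23.finite_fi23
  have := simp23
  exact degOn_of_check not_comm23 4089470473293004800 card_G LF (by decide +kernel) (by decide +kernel) [cd23]
    (by decide +kernel) (fun d hd => by rw [List.mem_singleton.1 hd]; exact cd23_has) minDeg_zero noDeg_nil chk_divE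

theorem mem_FL (χ : IrrCharacter Fi23) (h1 : (χ : Fi23 → ℂ) ≠ 1) {f : ℕ} (hf : (χ : Fi23 → ℂ) 1 = f) (hle : f ≤ 45747) :
    ∃ e ∈ TB, e.1.1 * e.1.2 = f := by
  have hfd : charDegree (χ : Fi23 → ℂ) = f := by
    have := Blocks.Knorr.charDegree_eq χ.2
    rw [hf] at this
    exact_mod_cast this.symm
  by_contra hcon
  refine absurd (degOnE χ h1 ?_) (by omega)
  rw [hfd]
  obtain ⟨c, hc, h2, h3⟩ := vals17 χ
  obtain ⟨c₃, i₃, hc₃, h6, -, -⟩ := vals13 χ
  obtain ⟨c₄, i₄, hc₄, h7, -, -⟩ := vals11 χ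
  have e17 := h3 f (by rw [hf]; push_cast; rfl)
  have e13 := h6 f (by rw [hf]; push_cast; rfl)
  have e11 := h7 f (by rw [hf]; push_cast; rfl)
  unfold PE
  simp only [Bool.and_eq_true]
  refine ⟨Nat.ble_eq_true_of_le hle, ?_, ?_, ?_, ?_⟩
  · rw [Bool.not_eq_true', Bool.eq_false_iff]
    intro h
    obtain ⟨e, he, h⟩ := List.any_eq_true.1 h
    exact hcon ⟨e, he, Nat.eq_of_beq_eq_true h⟩
  · have key : f % 17 = 0 ∨ f % 17 = 1 ∨ f % 17 = 16 := by
      rcases hc with rfl | rfl | rfl <;> omega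
    rcases key with h | h | h <;> rw [h] <;> decide
  · have key : f % 13 = 0 ∨ f % 13 = 1 ∨ f % 13 = 12 ∨ f % 13 = 2 ∨ f % 13 = 11 ∨ f % 13 = 6 ∨ f % 13 = 7 := by
      fin_cases i₃
      · replace e13 : (13 : ℤ) ∣ f - c₃ * 1 := e13
        rcases hc₃ with rfl | rfl | rfl | rfl | rfl <;> omega
      · replace e13 : (13 : ℤ) ∣ f - c₃ * 1 := e13
        rcases hc₃ with rfl | rfl | rfl | rfl | rfl <;> omega
      · replace e13 : (13 : ℤ) ∣ f - c₃ * 2 := e13
        rcases hc₃ with rfl | rfl | rfl | rfl | rfl <;> omega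
    rcases key with h | h | h | h | h | h | h <;> rw [h] <;> decide
  · have key : f % 11 = 0 ∨ f % 11 = 1 ∨ f % 11 = 10 ∨ f % 11 = 2 ∨ f % 11 = 9 := by
      fin_cases i₄
      · replace e11 : (11 : ℤ) ∣ f - c₄ * 1 := e11
        rcases hc₄ with rfl | rfl | rfl | ⟨h, -⟩
        · omega
        · omega
        · omega
        · exact absurd h (by decide)
      · replace e11 : (11 : ℤ) ∣ f - c₄ * 1 := e11
        rcases hc₄ with rfl | rfl | rfl | ⟨h, -⟩
        · omega
        · omega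
        · omega
        · exact absurd h (by decide)
      · replace e11 : (11 : ℤ) ∣ f - c₄ * 2 := e11
        rcases hc₄ with rfl | rfl | rfl | ⟨-, rfl | rfl⟩ <;> omega
    rcases key with h | h | h | h | h <;> rw [h] <;> decide

theorem z_ne_one : el .z ≠ (1 : Fi23) := by
  intro h
  apply not_comm23
  exfalso
  have h2 := jz_cube
  rw [h, mul_one] at h2
  have hj := el_sq .j
  rw [hj, one_mul] at h2
  have h3 := jz_ne_one
  rw [h, mul_one] at h3
  exact h3 h2

/-- **The enumeration.** -/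
theorem enum (χ : IrrCharacter Fi23) (h1 : (χ : Fi23 → ℂ) ≠ 1) {f : ℕ} (hf : (χ : Fi23 → ℂ) 1 = f) (hle : f ≤ 45747) :
    ∃ A B T : ℤ, (χ : Fi23 → ℂ) (el .z) = A ∧ (χ : Fi23 → ℂ) (el .g * el .z) = B ∧
      (χ : Fi23 → ℂ) (el .j * el .z) = T ∧ ∃ e ∈ TB, e.1.1 * e.1.2 = f ∧ key e.2 A B T = true := by
  have := H713.Spor.Fi23.finite_fi23
  have := simp23
  obtain ⟨f', A, B, T, m, ⟨a1, a2, a3, a4⟩, ⟨e1, e2, e3, e4⟩, h5, h6, h7, h8, h9⟩ := vals χ
  have hff : f' = f := by
    rw [hf] at a1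
    exact_mod_cast a1.symm
  subst hff
  have hS : Str f' A B T := {
    v1 := by omega
    v2 := by omega
    s1 := by omega
    s2 := by omega
    r1 := by omega
    r2 := by omega
    b1 := by omega
    b2 := by omega
    dvd := h6
    rel := h5
    m7 := h7
    m13 := h8
    m11 := h9 }
  have hnc : ¬ ∀ a b : Fi23, a * b = b * a := fun h => not_comm23 ⟨⟨h⟩⟩
  have hne : ∀ {n : ℕ}, n = f' → ‖(A : ℂ)‖ ≠ n := by
    intro n hn h
    refine h1 (SporadicA.M11CharSimple.eq_one_of_norm_eq hnc χ.2 z_ne_one (n := n) ?_ ?_)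
    · rw [hn, hf]
    · rw [a2, h]
  have hA1 : -(f' : ℤ) < A := by
    have : -(f' : ℤ) ≤ A := by omega
    refine lt_of_le_of_ne this fun h => hne rfl ?_
    rw [← h]
    push_cast
    rw [norm_neg]
    exact Complex.norm_natCast f'
  have hA2 : A < f' := by
    have : A ≤ f' := by omega
    refine lt_of_le_of_ne this fun h => hne rfl ?_
    rw [h]
    push_cast
    exact Complex.norm_natCast f'
  refine ⟨A, B, T, a2, a3, a4, ?_⟩
  obtain ⟨⟨⟨m', J⟩, K⟩, he, hef⟩ := mem_FL χ h1 hf hle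
  refine ⟨_, he, hef, ?_⟩
  have ht' := List.all_eq_true.1 tableOK _ he
  unfold oneOK at ht'
  simp only [Bool.and_eq_true, seqN_eq] at ht'
  obtain ⟨t1, t2, t3⟩ := ht'
  have t1' := Nat.eq_of_beq_eq_true t1
  have t2' := Nat.eq_of_beq_eq_true t2
  simp only at hef t1' t2' t3
  rw [hef] at t3
  have hf0 : 0 < f' := by
    rcases Nat.eq_zero_or_pos f' with h | h
    · exfalso
      have h10 := Blocks.Basic.charDegree_pos χ.2
      have h11 := Blocks.Knorr.charDegree_eq χ.2
      rw [hf] at h11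
      have h12 : f' = charDegree (χ : Fi23 → ℂ) := by exact_mod_cast h11
      omega
    · exact h
  have hJ0 : 0 < J := by
    rcases Nat.eq_zero_or_pos J with h | h
    · rw [h, mul_zero] at hef; omega
    · exact h
  have hm0 : 0 < m' := by
    rcases Nat.eq_zero_or_pos m' with h | h
    · rw [h, zero_mul] at hef; omega
    · exact h
  refine key_of (by exact_mod_cast hf0) (fun A' hA' => ?_) (by rw [← hef]; push_cast; ring) (by exact_mod_cast hm0) t3 hS
    hA1 hA2
  · obtain ⟨w, hw⟩ := Nat.dvd_of_mod_eq_zero t1'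
    have hw2 : 31671 / J = w := by
      rw [hw]; exact Nat.mul_div_cancel_left w hJ0
    rw [hw2] at t2'
    have h31 : (31671 : ℤ) = J * w := by exact_mod_cast hw
    rw [h31, ← hef] at hA'
    push_cast at hA'
    have h10 : (J : ℤ) * m' ∣ J * (w * A') := by
      rw [mul_comm (J : ℤ) m']
      convert hA' using 1
      ring
    have h11 : (m' : ℤ) ∣ w * A' := (mul_dvd_mul_iff_left (by exact_mod_cast hJ0.ne')).1 h10
    have h12 : IsCoprime (m' : ℤ) (w : ℤ) := Nat.isCoprime_iff_coprime.2 t2'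
    exact h12.dvd_of_dvd_mul_left h11

end Cfsg.Agent.H856.TF
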