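import Cfsg.Agent.H856.TF.Enum2

/-!
# `Fi₂₃`: characters with equal values at `2A` and `2B` and value `0` at `3A` (helper856)

`no_deg` : a character `φ` of `Fi₂₃` with `φ(2A) = φ(2B)` and `φ(3A) = 0` does not have the degree `n`, if the check `srch` is
true.
-/

set_option autoImplicit false
set_option maxRecDepth 100000

namespace Cfsg.Agent.H856.TF

open Cfsg Subgroup Cfsg.Agent.Fischer.Fi23Hom Cfsg.Agent.LThreeFi23
open Cfsg.Agent.Characters.Core
open Cfsg.Spor (Fi23)
open Cfsg.Agent.H511.Ore Cfsg.Agent.H856.F23

/-- the entries `(f, T, D)` -/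
abbrev E : Type := ℤ × ℤ × ℤ

/-- the table, without the character of degree 782 -/
def KS : List E := [
  (3588, 78, -376), (5083, 169, -768), (7820, 98, 408), (8568, 378, -2576), (10166, -13, -112), (12155, 923,
  -1496), (12903, 267, -2354), (12903, 2724, -4466), (15640, 547, -3012), (15640, 2437, -6400), (17952, -300,
  2112), (24310, 91, -737), (24310, 2197, -11209), (24310, 5005, -12980), (25024, 1021, 1120), (25024, 5368,
  -6272), (25024, 7825, -11648), (25806, -384, 2816), (25806, 183, -2189), (25806, 2073, -13893), (25806,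
  2640, -15664), (25806, 5097, -12749), (26520, 3354, -14016), (26520, 5811, -13540), (30107, 623, -5082),
  (30107, 1190, -9856), (30107, 3080, -5082), (30107, 6104, -11242), (30888, 351, -2816), (32130, -357, 1981),
  (32130, 189, -2387), (32130, 1281, -7931), (32130, 2100, -7196), (32130, 3738, -924), (32130, 5103, -15036),
  (32130, 7014, -9275), (32130, 7833, -13244), (32844, 903, -8050), (32844, 5817, -3584), (35190, -378, 2375),
  (35190, -27, -628), (35190, 189, -1769), (35190, 441, 1311), (35190, 540, -5313), (35190, 792, -7280),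
  (35190, 1008, -8097), (35190, 1359, -10484), (35190, 2079, 1388), (35190, 2430, -15673), (35190, 2646,
  -17204), (35190, 2898, -18401), (35190, 2997, -15860), (35190, 3249, -6004), (35190, 3816, -17521), (35190,
  4536, -18324), (35190, 4887, -11977), (35190, 5454, -5633), (35190, 5706, -11121), (35190, 5922, -13396),
  (35190, 7344, -17169), (35190, 7911, -15764), (35190, 8163, -13748), (35190, 8379, -14817), (35190, 9801,
  -16896), (35190, 10620, -13300), (35904, 10011, -14432), (36432, 981, -8888), (36432, 9990, -16896), (37179,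
  540, -4664), (37179, 2430, -5994), (38675, 4277, -15512), (41769, -546, 3584), (41769, 1911, -16128),
  (41769, 2457, -11200), (41769, 2730, -6734), (41769, 5187, -26446), (41769, 9282, -15358), (43010, 890,
  -8316), (43010, 3347, -23067), (43010, 5804, -25179), (43010, 8261, -20988), (43010, 13175, -19712), (43470,
  378, -3045), (43470, 2289, -7588), (43470, 4746, -27300), (43470, 10479, -20909), (43758, 0, -1188), (43758,
  351, -4037), (43758, 1989, -11396), (43758, 2457, -14509), (43758, 2808, -20669), (43758, 4095, -15125),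
  (43758, 4446, -10549), (43758, 5265, -23364), (43758, 6552, -3652), (43758, 6903, -16896), (43758, 7722,
  -14861), (43758, 9009, -23364), (43758, 11817, -14509), (43758, 12285, -20592), (45747, -1287, 9352),
  (45747, 351, -4090), (45747, 1170, -10360), (45747, 2808, -16256), (45747, 5265, -28378), (45747, 7722,
  -20216), (45747, 10179, -13440)]

theorem KS_eq : (TB.flatMap fun e => e.2.map fun k => ((((e.1.1 * e.1.2 : ℕ) : ℤ), k.1, k.2) : E)) = K0 :: KS := by
  decide +kernel

/-- no combination of the trivial character and the character of degree 782 -/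
def close (F T D : ℤ) : Bool :=
  !(dv 783 (F + T)) || (!(nn (F + T)) || (!(nn ((F + T) / 783 - T)) || nn (D - 1)))

/-- the search -/
def srch : ℕ → List E → ℤ → ℤ → ℤ → Bool
  | 0, _, _, _, _ => false
  | _ + 1, [], F, T, D => close F T D
  | n + 1, k :: ks, F, T, D =>
    bif nn (F - k.1) then
      srch n ks F T D && seqI (F - k.1) fun F' => seqI (T + k.2.1) fun T' => seqI (D + k.2.2) fun D' =>
        srch n (k :: ks) F' T' D'
    else close F T D

theorem close_sound {F T D : ℤ} (h : close F T D = true) {a b : ℕ} (h1 : F = a + 782 * b) (h2 : T + a - b = 0)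
    (h3 : D ≤ 0) : False := by
  unfold close at h
  have e : F + T = 783 * b := by omega
  rw [dv_of (p := 783) (x := F + T) (by rw [e]; exact ⟨b, by norm_num⟩), nn_of (x := F + T) (by omega),
    nn_of (x := (F + T) / 783 - T) (by omega)] at h
  simp only [Bool.not_true, Bool.false_or] at h
  have := le_of_nn h
  omega

open Multiset in
theorem srch_sound : ∀ (n : ℕ) (ks : List E) (F T D : ℤ), srch n ks F T D = true → ks.Pairwise (fun x y => x.1 ≤ y.1) →
    (∀ x ∈ ks, 0 ≤ x.1) → ∀ (s : Multiset E), (∀ x ∈ s, x ∈ ks) → ∀ a b : ℕ, F = (s.map (·.1)).sum + a + 782 * b →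
    T + (s.map (·.2.1)).sum + a - b = 0 → D + (s.map (·.2.2)).sum ≤ 0 → False
  | 0, ks, F, T, D, h, _, _, s, _, a, b, _, _, _ => Bool.false_ne_true h
  | n + 1, [], F, T, D, h, _, _, s, hs, a, b, h1, h2, h3 => by
    have hs0 : s = 0 := eq_zero_of_forall_notMem fun x hx => by simpa using hs x hx
    subst hs0
    simp only [map_zero, sum_zero] at h1 h2 h3
    exact close_sound h (a := a) (b := b) (by omega) (by omega) (by omega)
  | n + 1, k :: ks, F, T, D, h, hp, h0, s, hs, a, b, h1, h2, h3 => by
    have hp' := List.pairwise_cons.1 hp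
    have hnn : ∀ t : Multiset E, (∀ x ∈ t, x ∈ k :: ks) → 0 ≤ (t.map (·.1)).sum := by
      intro t ht
      refine sum_nonneg fun y hy => ?_
      obtain ⟨x, hx, rfl⟩ := mem_map.1 hy
      exact h0 x (ht x hx)
    rw [srch] at h
    cases hF : nn (F - k.1) with
    | false =>
      rw [hF, cond_false] at h
      have hlt : F < k.1 := by
        by_contra hcon
        rw [nn_of (by omega)] at hF
        exact Bool.false_ne_true hF.symm
      have hs0 : s = 0 := by
        refine eq_zero_of_forall_notMem fun x hx => ?_
        obtain ⟨t, rfl⟩ := exists_cons_of_mem hx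
        rw [map_cons, sum_cons] at h1
        have hx1 : k.1 ≤ x.1 := by
          rcases List.mem_cons.1 (hs x hx) with h | h
          · rw [h]
          · exact hp'.1 x h
        have := hnn t (fun y hy => hs y (mem_cons_of_mem hy))
        omega
      subst hs0
      simp only [map_zero, sum_zero] at h1 h2 h3
      exact close_sound h (a := a) (b := b) (by omega) (by omega) (by omega)
    | true =>
      rw [hF, cond_true, Bool.and_eq_true] at h
      simp only [seqI_eq] at h
      by_cases hk : k ∈ s
      · obtain ⟨t, rfl⟩ := exists_cons_of_mem hk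
        simp only [map_cons, sum_cons] at h1 h2 h3
        exact srch_sound n (k :: ks) _ _ _ h.2 hp h0 t (fun y hy => hs y (mem_cons_of_mem hy)) a b (by omega) (by omega)
          (by omega)
      · refine srch_sound n ks _ _ _ h.1 hp'.2 (fun x hx => h0 x (List.mem_cons_of_mem _ hx)) s (fun x hx => ?_) a b h1
          h2 h3
        rcases List.mem_cons.1 (hs x hx) with h | h
        · exact absurd (h ▸ hx) hk
        · exact h

theorem KS_sorted : KS.Pairwise (fun x y => x.1 ≤ y.1) := by
  have h : (KS.map (·.1)).Pairwise (· ≤ ·) := by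
    rw [← List.isChain_iff_pairwise]
    decide +kernel
  exact List.pairwise_map.1 h

theorem KS_nonneg : ∀ x ∈ KS, 0 ≤ x.1 := by decide +kernel

/-- with the character of degree 782 in the multiset -/
theorem sound {n : ℕ} {F : ℤ} (h : srch n KS F 0 0 = true) (s : Multiset E) (hs : ∀ x ∈ s, x ∈ K0 :: KS) (a : ℕ)
    (h1 : F = (s.map (·.1)).sum + a) (h2 : (s.map (·.2.1)).sum + a = 0) (h3 : (s.map (·.2.2)).sum ≤ 0) : False := by
  classical
  have e := Multiset.filter_add_not (fun x => x = K0) s
  have e2 : s.filter (fun x => x = K0) = Multiset.replicate (s.count K0) K0 := by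
    rw [Multiset.filter_eq']
  rw [e2] at e
  rw [← e, Multiset.map_add, Multiset.sum_add, Multiset.map_replicate, Multiset.sum_replicate] at h1 h2 h3
  refine srch_sound n KS F 0 0 h KS_sorted KS_nonneg (s.filter fun x => ¬ x = K0) (fun x hx => ?_) a (s.count K0) ?_ ?_ ?_
  · rw [Multiset.mem_filter] at hx
    rcases List.mem_cons.1 (hs x hx.1) with h | h
    · exact absurd h hx.2
    · exact h
  · rw [h1]; simp only [K0, nsmul_eq_mul]; ring
  · simp only [K0, nsmul_eq_mul] at h2 ⊢
    linarith
  · simp only [K0, nsmul_eq_mul] at h3 ⊢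
    linarith

end Cfsg.Agent.H856.TF
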